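import Mathlib
import Cfsg.Agent.Lib.Helper33.Breadth.Defs

/-!
# BREADTH (S3777, helper33's project): package [LIN] (helper82)

The linear algebra lemma: a space `L` of alternating biadditive forms on a group, none of which
(except `0`) vanishes on the kernel of `χ₀`; then another kernel has this property.
-/

set_option autoImplicit false

namespace Cfsg.Agent.Lib.Helper82.Breadth

open Cfsg.Agent.Lib.Helper33.Breadth

universe u

section

variable {G : Type u} [Group G] {p : ℕ} [Fact p.Prime]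

theorem addf_one (f : G → ZMod p) (hf : ∀ x z, f (x * z) = f x + f z) : f 1 = 0 := by
  have h := hf 1 1
  rw [mul_one] at h
  simpa using h

theorem addf_pow (f : G → ZMod p) (hf : ∀ x z, f (x * z) = f x + f z) (x : G) (n : ℕ) :
    f (x ^ n) = (n : ZMod p) * f x := by
  induction n with
  | zero => simp [addf_one f hf]
  | succ k ih =>
    rw [pow_succ, hf, ih]
    push_cast
    ring

/-- the wedge of two functions, as a bilinear map -/
def wedgeL : (G → ZMod p) →ₗ[ZMod p] (G → ZMod p) →ₗ[ZMod p] (G → G → ZMod p) :=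
  LinearMap.mk₂ (ZMod p) (fun γ δ => fun x z => γ x * δ z - γ z * δ x)
    (by
      intro a b c
      funext x z
      show (a + b) x * c z - (a + b) z * c x = (a x * c z - a z * c x) + (b x * c z - b z * c x)
      simp only [Pi.add_apply]
      ring)
    (by
      intro r a b
      funext x z
      show (r • a) x * b z - (r • a) z * b x = r • (a x * b z - a z * b x)
      simp only [Pi.smul_apply, smul_eq_mul]
      ring)
    (by
      intro a b c
      funext x z
      show a x * (b + c) z - a z * (b + c) x = (a x * b z - a z * b x) + (a x * c z - a z * c x)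
      simp only [Pi.add_apply]
      ring)
    (by
      intro r a b
      funext x z
      show a x * (r • b) z - a z * (r • b) x = r • (a x * b z - a z * b x)
      simp only [Pi.smul_apply, smul_eq_mul]
      ring)

theorem wedgeL_apply (γ δ : G → ZMod p) (x z : G) :
    wedgeL γ δ x z = γ x * δ z - γ z * δ x := rfl

/-- evaluation of the second argument at `y` -/
def evalL (p : ℕ) [Fact p.Prime] (y : G) : (G → G → ZMod p) →ₗ[ZMod p] (G → ZMod p) where
  toFun f := fun x => f x y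
  map_add' _ _ := rfl
  map_smul' _ _ := rfl

theorem evalL_apply (y : G) (f : G → G → ZMod p) (x : G) : evalL p y f x = f x y := rfl

/-- the additive functions vanishing at `y` -/
def U1 (p : ℕ) [Fact p.Prime] (y : G) : Submodule (ZMod p) (G → ZMod p) where
  carrier := {γ | (∀ x z, γ (x * z) = γ x + γ z) ∧ γ y = 0}
  zero_mem' := ⟨fun x z => by simp, rfl⟩
  add_mem' := by
    rintro a b ⟨ha1, ha2⟩ ⟨hb1, hb2⟩
    refine ⟨fun x z => ?_, ?_⟩
    · simp only [Pi.add_apply, ha1 x z, hb1 x z]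
      ring
    · simp only [Pi.add_apply, ha2, hb2, add_zero]
  smul_mem' := by
    rintro c a ⟨ha1, ha2⟩
    refine ⟨fun x z => ?_, ?_⟩
    · simp only [Pi.smul_apply, smul_eq_mul, ha1 x z]
      ring
    · simp only [Pi.smul_apply, ha2, smul_zero]

theorem mem_U1 (y : G) (γ : G → ZMod p) :
    γ ∈ U1 p y ↔ (∀ x z, γ (x * z) = γ x + γ z) ∧ γ y = 0 := Iff.rfl

end

/-- Package [LIN]. -/
theorem pkgLin (hE3 : PkgE3.{u}) : PkgLin.{u} := by
  intro G _ _ p _ L hadd1 hadd2 halt hne χ₀ hχ hχne hinj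
  classical
  haveI : NeZero p := ⟨(Fact.out : p.Prime).ne_zero⟩
  obtain ⟨x₀, hx₀⟩ := hχne
  obtain ⟨y, hy⟩ : ∃ y, χ₀ y = 1 := by
    refine ⟨x₀ ^ ((χ₀ x₀)⁻¹).val, ?_⟩
    rw [addf_pow χ₀ hχ, ZMod.natCast_zmod_val, inv_mul_cancel₀ hx₀]
  have hanti : ∀ β ∈ L, ∀ x z, β x z = - β z x := by
    intro β hβ x z
    have h := halt β hβ (x * z)
    rw [hadd1 β hβ, hadd2 β hβ, hadd2 β hβ, halt β hβ x, halt β hβ z] at h
    linear_combination h
  have hshift : ∀ (χ : G → ZMod p), (∀ x z, χ (x * z) = χ x + χ z) → χ y = 1 →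
      ∀ x, χ (x * y ^ (-χ x).val) = 0 := by
    intro χ hχa hχy x
    rw [hχa, addf_pow χ hχa, ZMod.natCast_zmod_val, hχy]
    ring
  have factA : ∀ (χ : G → ZMod p), (∀ x z, χ (x * z) = χ x + χ z) → χ y = 1 → ∀ β ∈ L,
      (∀ x z, χ x = 0 → χ z = 0 → β x z = 0) → ∀ x z, β x z = β x y * χ z - β z y * χ x := by
    intro χ hχa hχy β hβ hvan x z
    have e1 : ∀ (x : G) (m : ℕ), β x (y ^ m) = (m : ZMod p) * β x y := fun x m =>
      addf_pow (fun w => β x w) (fun a b => hadd2 β hβ x a b) y m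
    have e2 : ∀ (z : G) (n : ℕ), β (y ^ n) z = (n : ZMod p) * β y z := fun z n =>
      addf_pow (fun w => β w z) (fun a b => hadd1 β hβ a b z) y n
    have h := hvan _ _ (hshift χ hχa hχy x) (hshift χ hχa hχy z)
    rw [hadd1 β hβ, hadd2 β hβ, hadd2 β hβ, e1 x, e2 z, e2 (y ^ (-χ z).val), e1 y,
      halt β hβ y, ZMod.natCast_zmod_val, ZMod.natCast_zmod_val] at h
    linear_combination h + χ x * hanti β hβ y z
  have hψmem : ∀ β ∈ L, (fun x => β x y) ∈ U1 p y := fun β hβ =>
    ⟨fun x z => hadd1 β hβ x z y, halt β hβ y⟩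
  have hnontriv : Nontrivial ↥(U1 p y) := by
    by_contra hnt
    rw [not_nontrivial_iff_subsingleton] at hnt
    obtain ⟨β, hβ, hβ0⟩ := hne
    apply hβ0
    have hψ0 : ∀ x, β x y = 0 := by
      intro x
      have h := Subsingleton.elim (⟨fun x => β x y, hψmem β hβ⟩ : ↥(U1 p y)) 0
      have h2 := congrArg (fun u : ↥(U1 p y) => (u : G → ZMod p) x) h
      simpa using h2
    funext x z
    have hmem : (fun z => β x z - β x y * χ₀ z) ∈ U1 p y := by
      refine ⟨fun a b => ?_, ?_⟩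
      · show β x (a * b) - β x y * χ₀ (a * b) = (β x a - β x y * χ₀ a) + (β x b - β x y * χ₀ b)
        rw [hadd2 β hβ, hχ]
        ring
      · show β x y - β x y * χ₀ y = 0
        rw [hy]
        ring
    have h := Subsingleton.elim (⟨_, hmem⟩ : ↥(U1 p y)) 0
    have h2 := congrArg (fun u : ↥(U1 p y) => (u : G → ZMod p) z) h
    have h3 : β x z - β x y * χ₀ z = 0 := by simpa using h2
    rw [hψ0 x] at h3
    simpa using h3
  -- the map `ρ`
  obtain ⟨ρ, hρ⟩ : ∃ ρ : ↥L →ₗ[ZMod p] (G → G → ZMod p), ∀ (β : ↥L) (x z : G),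
      ρ β x z = (β : G → G → ZMod p) x z -
        ((β : G → G → ZMod p) x y * χ₀ z - (β : G → G → ZMod p) z y * χ₀ x) :=
    ⟨L.subtype - (wedgeL.flip χ₀).comp ((evalL p y).comp L.subtype), fun β x z => rfl⟩
  have hker : LinearMap.ker ρ = ⊥ := by
    rw [LinearMap.ker_eq_bot']
    intro β hβ0
    have h1 : (β : G → G → ZMod p) = 0 := by
      apply hinj _ β.2
      intro x z hx hz
      have h2 := congrFun (congrFun hβ0 x) z
      rw [hρ, hx, hz] at h2
      simpa using h2
    exact Subtype.ext h1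
  obtain ⟨g, hg⟩ := LinearMap.exists_leftInverse_of_injective ρ hker
  have hgρ : ∀ β : ↥L, g (ρ β) = β := fun β => LinearMap.congr_fun hg β
  obtain ⟨ψt, hψt⟩ : ∃ ψt : (G → G → ZMod p) →ₗ[ZMod p] ↥(U1 p y), ∀ (f : G → G → ZMod p)
      (x : G), (ψt f : G → ZMod p) x = ((g f : ↥L) : G → G → ZMod p) x y :=
    ⟨LinearMap.codRestrict (U1 p y) ((evalL p y).comp (L.subtype.comp g))
      (fun f => hψmem _ (g f).2), fun f x => rfl⟩
  obtain ⟨θ, hθ⟩ : ∃ θ : ↥(U1 p y) →ₗ[ZMod p] ↥(U1 p y) →ₗ[ZMod p] ↥(U1 p y),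
      ∀ c a : ↥(U1 p y), θ c a = - ψt (wedgeL (c : G → ZMod p) (a : G → ZMod p)) :=
    ⟨-((wedgeL.compl₁₂ (U1 p y).subtype (U1 p y).subtype).compr₂ ψt), fun c a => rfl⟩
  have hθalt : ∀ c, θ c c = 0 := by
    intro c
    rw [hθ]
    have h0 : wedgeL (c : G → ZMod p) (c : G → ZMod p) = 0 := by
      funext x z
      rw [wedgeL_apply]
      simp only [Pi.zero_apply]
      ring
    rw [h0, map_zero, neg_zero]
  haveI := hnontriv
  obtain ⟨a, ha0, ha⟩ := hE3 p θ hθalt
  have ha1 : ∀ x z, (a : G → ZMod p) (x * z) = (a : G → ZMod p) x + (a : G → ZMod p) z := a.2.1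
  have ha2 : (a : G → ZMod p) y = 0 := a.2.2
  obtain ⟨χ, hχdef⟩ : ∃ χ : G → ZMod p, ∀ x, χ x = χ₀ x + (a : G → ZMod p) x :=
    ⟨fun x => χ₀ x + (a : G → ZMod p) x, fun _ => rfl⟩
  have hχadd : ∀ x z, χ (x * z) = χ x + χ z := by
    intro x z
    rw [hχdef, hχdef, hχdef, hχ, ha1]
    ring
  have hχy : χ y = 1 := by rw [hχdef, hy, ha2, add_zero]
  refine ⟨χ, hχadd, ⟨y, by rw [hχy]; exact one_ne_zero⟩, ?_, ?_⟩
  · have hex : ∃ x, (a : G → ZMod p) x ≠ 0 := by
      by_contra hcon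
      push_neg at hcon
      apply ha0
      apply Subtype.ext
      funext x
      rw [hcon x]
      rfl
    obtain ⟨x, hx⟩ := hex
    refine ⟨x * y ^ (-χ₀ x).val, hshift χ₀ hχ hy x, ?_⟩
    rw [hχdef, hshift χ₀ hχ hy x, zero_add, ha1, addf_pow (a : G → ZMod p) ha1, ha2, mul_zero,
      add_zero]
    exact hx
  · intro β hβ hvan
    have hA := factA χ hχadd hχy β hβ hvan
    obtain ⟨c, hc⟩ : ∃ c : ↥(U1 p y), ∀ x, (c : G → ZMod p) x = β x y :=
      ⟨⟨fun x => β x y, hψmem β hβ⟩, fun _ => rfl⟩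
    have hρw : ρ ⟨β, hβ⟩ = wedgeL (c : G → ZMod p) (a : G → ZMod p) := by
      funext x z
      rw [hρ, wedgeL_apply, hc, hc]
      show β x z - (β x y * χ₀ z - β z y * χ₀ x) =
        β x y * (a : G → ZMod p) z - β z y * (a : G → ZMod p) x
      rw [hA x z, hχdef, hχdef]
      ring
    have hψc : ψt (wedgeL (c : G → ZMod p) (a : G → ZMod p)) = c := by
      rw [← hρw]
      apply Subtype.ext
      funext x
      rw [hψt, hgρ, hc]
    have hc0 : c = 0 := by
      apply ha
      rw [hθ, hψc, add_neg_cancel]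
    have hβy : ∀ x, β x y = 0 := by
      intro x
      rw [← hc x, hc0]
      rfl
    funext x z
    rw [hA x z, hβy x, hβy z]
    simp

end Cfsg.Agent.Lib.Helper82.Breadth
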